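import Groth.Agent.NoriLib.Finite
import Groth.Agent.S6266
import Mathlib.AlgebraicGeometry.Morphisms.FlatRank

/-! A finite morphism with fibres of constant rank over a reduced base is flat. -/

universe u

open CategoryTheory MonoidalCategory CartesianMonoidalCategory MonObj GrpObj AlgebraicGeometry
open CategoryTheory.Limits
open scoped TensorProduct

namespace Groth.Agent.NoriLib

theorem flat_to_spec_field {K : Type u} [Field K] {W : Scheme.{u}} (g : W ⟶ Spec (CommRingCat.of K)) : Flat g :=
  AssLib.flat_over_field g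

theorem flat_of_rank_spec {R : CommRingCat.{u}} [_root_.IsReduced R] {F : Scheme.{u}} (π : F ⟶ Spec R) [IsFinite π]
    (n : ℕ) (h : ∀ (K : Type u) [Field K] (q : Spec (CommRingCat.of K) ⟶ Spec R),
      (pullback.snd π q).finrank (IsLocalRing.closedPoint K) = n) : Flat π := by
  have : IsAffine F := isAffine_of_isAffineHom π
  rw [← MorphismProperty.cancel_left_of_respectsIso @Flat F.isoSpec.inv]
  obtain ⟨φ, hφ⟩ := Spec.map_surjective (F.isoSpec.inv ≫ π)
  rw [← hφ, Flat.SpecMap_iff]
  let B := Γ(F, ⊤)
  let := φ.hom.toAlgebra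
  have hfin : IsFinite (Spec.map φ) := by rw [hφ]; infer_instance
  have : Module.Finite R B := (IsFinite.SpecMap_iff φ).mp hfin
  have hrk : ∀ p : PrimeSpectrum R, Module.finrank p.asIdeal.ResidueField (p.asIdeal.ResidueField ⊗[R] B) = n := by
    intro p
    let K := p.asIdeal.ResidueField
    let q : Spec (CommRingCat.of K) ⟶ Spec R := Spec.map (CommRingCat.ofHom (algebraMap R K))
    have := flat_to_spec_field (pullback.snd π q)
    rw [← h K q]
    have hB : Spec.map (CommRingCat.ofHom (algebraMap R B)) = F.isoSpec.inv ≫ π := hφ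
    let e : pullback π q ≅ Spec (CommRingCat.of (K ⊗[R] B)) :=
      (asIso (pullback.map (Spec.map (CommRingCat.ofHom (algebraMap R B))) q π q F.isoSpec.inv (𝟙 _) (𝟙 _)
        (by rw [Category.comp_id, hB]) (by simp))).symm ≪≫ pullbackSymmetry _ _ ≪≫ pullbackSpecIso R K B
    have he : e.hom ≫ Spec.map (CommRingCat.ofHom (algebraMap K (K ⊗[R] B))) = pullback.snd π q := by
      rw [← Iso.eq_inv_comp]
      simp only [e, Iso.trans_inv, Iso.symm_inv, asIso_hom, Category.assoc, pullback.lift_snd, pullback.map,
        Category.comp_id, pullbackSymmetry_inv_comp_snd]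
      exact (pullbackSpecIso_inv_fst' R K B).symm
    have : Flat (Spec.map (CommRingCat.ofHom (algebraMap K (K ⊗[R] B)))) := flat_to_spec_field _
    have : IsFinite (Spec.map (CommRingCat.ofHom (algebraMap K (K ⊗[R] B)))) := by
      rw [IsFinite.SpecMap_iff, CommRingCat.hom_ofHom, RingHom.finite_algebraMap]
      infer_instance
    rw [← he, Scheme.Hom.finrank_comp_left_of_isIso, Scheme.Hom.finrank_SpecMap_algebraMap,
      Module.rankAtStalk_eq_finrank_of_free]
    rfl
  have := ((Groth.Agent.S6266.result R B).mpr ⟨inferInstance, by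
    simp_rw [hrk]; exact IsLocallyConstant.const _⟩).2
  exact RingHom.flat_algebraMap_iff.mpr inferInstance

theorem flat_of_rank {X F : Scheme.{u}} [IsReduced X] (π : F ⟶ X) [IsFinite π]
    (n : ℕ) (h : ∀ (K : Type u) [Field K] (q : Spec (CommRingCat.of K) ⟶ X),
      (pullback.snd π q).finrank (IsLocalRing.closedPoint K) = n) : Flat π := by
  refine IsZariskiLocalAtTarget.of_openCover X.affineCover fun i => ?_
  let v : Spec (X.affineOpenCover.X i) ⟶ X := X.affineOpenCover.f i
  show Flat (pullback.snd π v)
  have : IsFinite (pullback.snd π v) := MorphismProperty.pullback_snd _ _ ‹_›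
  have : IsReduced (Spec (X.affineOpenCover.X i)) := isReduced_of_isOpenImmersion (X.affineOpenCover.f i)
  have : _root_.IsReduced (X.affineOpenCover.X i) := (affine_isReduced_iff _).mp inferInstance
  refine flat_of_rank_spec (R := X.affineOpenCover.X i) (pullback.snd π v) n fun K _ q => ?_
  rw [← h K (q ≫ v)]
  have := flat_to_spec_field (pullback.snd π (q ≫ v))
  rw [← pullbackLeftPullbackSndIso_hom_snd π v q, Scheme.Hom.finrank_comp_left_of_isIso]

variable {k : Type u} [Field k] {X : Scheme.{u}} {p : X ⟶ Spec (CommRingCat.of k)}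

/-- A surjective finite pseudo-torsor under a finite group over a field is flat over a reduced base. -/
theorem flat_of_pseudoTorsor [IsReduced X] {Q : Over (Spec (CommRingCat.of k))} [GrpObj Q] [IsFinite Q.hom]
    {F : Over X} [IsFinite F.hom] [Surjective F.hom] {c : AlgGrp.Action (Red.bc p Q) F}
    (hc : NonAbH1.IsPseudoTorsorSch c) : Flat F.hom := by
  refine flat_of_rank F.hom (Q.hom.finrank (IsLocalRing.closedPoint k)) fun K _ q => ?_
  let πK := pullback.snd F.hom q
  have := flat_to_spec_field πK
  have := flat_field Q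
  obtain ⟨z, hz⟩ := πK.surjective (IsLocalRing.closedPoint K)
  let w : pullback F.hom q ⟶ X := pullback.fst F.hom q ≫ F.hom
  let σ : Over.mk w ⟶ F := Over.homMk (pullback.fst F.hom q) rfl
  let e := lift ((Red.bc p Q ◁ σ) ≫ c.act) (snd (Red.bc p Q) (Over.mk w))
  have : IsIso e := SchTorsor.isIso_of_section hc σ
  have : IsIso e.left := (Over.forget X).map_isIso e
  let e' : pullback (pullback.snd Q.hom p) w ⟶ pullback F.hom w := e.left
  have : IsIso e' := ‹IsIso e.left›
  have he : e' ≫ pullback.snd F.hom w = pullback.snd (pullback.snd Q.hom p) w :=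
    congrArg CommaMorphism.left (lift_snd _ _ : e ≫ snd F (Over.mk w) = snd (Red.bc p Q) (Over.mk w))
  have hw : w = πK ≫ q := pullback.condition
  -- the base change of the fibre to itself
  have sq : IsPullback (pullback.lift (pullback.fst F.hom w) (pullback.snd F.hom w ≫ πK)
      (by rw [pullback.condition, hw, Category.assoc]) : pullback F.hom w ⟶ pullback F.hom q)
      (pullback.snd F.hom w) πK πK := by
    refine IsPullback.of_right ?_ (pullback.lift_snd _ _ _) (IsPullback.of_hasPullback F.hom q)
    rw [pullback.lift_fst, ← hw]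
    exact IsPullback.of_hasPullback F.hom w
  have : Flat (pullback.snd F.hom w) := MorphismProperty.of_isPullback sq ‹_›
  have h1 : (pullback.snd F.hom w).finrank z = πK.finrank (IsLocalRing.closedPoint K) := by
    rw [Scheme.Hom.finrank_of_isPullback _ _ _ _ sq z, hz]
  rw [← h1, ← Scheme.Hom.finrank_comp_left_of_isIso e' (pullback.snd F.hom w), he,
    Scheme.Hom.finrank_pullback_snd, Scheme.Hom.finrank_pullback_snd]
  congr 1
  exact Subsingleton.elim (α := PrimeSpectrum k) _ _

end Groth.Agent.NoriLib
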